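import Mathlib
import Cfsg.Agent.LieClassical.OrthCore
import Cfsg.Agent.ClosedTwo.Elem
import Cfsg.Agent.ClassicalGeometry.Universal
import Cfsg.Agent.GenOrth.Cases
import Cfsg.Agent.ClosedTwo.Alt
import Cfsg.Agent.FastGrp
import Cfsg.Agent.Prune
set_option linter.all false
prune_inst 0x7ffffffb3bf9fddfdfff7ffff796cffdfff9bfffe6fffdcbffe0efffffbf7f0aefe7fba78ffa92fc5ff7e23414f87b53fdffffffe36bf87ffffd1ff41ffbffdffdf6b50951ff9cb40fbe0fff03f0778e7f3fffffffffffffffffffffffffffbeffbfffffffff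
open scoped Cfsg.Agent.FastGrp

-- merged: Cfsg.Agent.FooteOrth.Xset
section

/-!
# The isometries conjugate into a strongly closed subgroup (helper17)

`φ : E Q →* G`, `A` strongly closed in the Sylow 2-subgroup `S` of `G`.

* `XX φ A g` : `g ∈ E Q` and the image of `g` is conjugate into `A`;
* `X φ A g` : the same for all the conjugates of `g` under `O Q`;
* `X.mul`, `X.mul_invol`, `X.conj`, `X.closure`.
-/

set_option autoImplicit false

namespace Cfsg.Agent.FooteOrth

open QuadraticMap Cfsg Subgroup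
open Cfsg.Agent.LieClassical.OrthCore
open Cfsg.Agent.ClosedTwo.Elem

variable {F V : Type*} [Field F] [AddCommGroup V] [Module F V] {Q : QuadraticForm F V} {G : Type*} [Group G]

/-- conjugation by an isometry, on `E Q` -/
def cj (Q : QuadraticForm F V) {h : V ≃ₗ[F] V} (hh : h ∈ O Q) : E Q →* E Q where
  toFun g := ⟨h * g * h⁻¹, conj_mem_E hh g.2⟩
  map_one' := Subtype.ext (by simp)
  map_mul' a b := Subtype.ext (by simp only [mul_assoc, _root_.Subgroup.coe_mul, _root_.MulMemClass.mk_mul_mk, _root_.inv_mul_cancel_left])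

theorem cj_coe {h : V ≃ₗ[F] V} (hh : h ∈ O Q) (g : E Q) : (cj Q hh g : V ≃ₗ[F] V) = h * g * h⁻¹ := rfl

/-- the image of `g` is conjugate into `A` -/
def XX (φ : E Q →* G) (A : Subgroup G) (g : V ≃ₗ[F] V) : Prop := ∃ hg : g ∈ E Q, Cl A (φ ⟨g, hg⟩)

/-- the images of all the `O Q`-conjugates of `g` are conjugate into `A` -/
def X (φ : E Q →* G) (A : Subgroup G) (g : V ≃ₗ[F] V) : Prop :=
  ∃ hg : g ∈ E Q, ∀ (h : V ≃ₗ[F] V) (hh : h ∈ O Q), Cl A (φ (cj Q hh ⟨g, hg⟩))

variable {φ : E Q →* G} {A : Subgroup G} {g k : V ≃ₗ[F] V}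

theorem XX.conj (hg : XX φ A g) (hk : k ∈ E Q) : XX φ A (k * g * k⁻¹) := by
  obtain ⟨hg, hc⟩ := hg
  refine ⟨(E Q).mul_mem ((E Q).mul_mem hk hg) ((E Q).inv_mem hk), ?_⟩
  have := hc.conj (φ ⟨k, hk⟩)
  rw [← map_mul, ← map_inv, ← map_mul] at this
  exact this

theorem X.one : X φ A (1 : V ≃ₗ[F] V) := by
  refine ⟨(E Q).one_mem, fun h hh => ?_⟩
  have : cj Q hh ⟨1, (E Q).one_mem⟩ = 1 := map_one (cj Q hh)
  rw [this, map_one]
  exact cl_one

theorem X.xx (hg : X φ A g) : XX φ A g := by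
  obtain ⟨hg, hc⟩ := hg
  refine ⟨hg, ?_⟩
  have := hc 1 (O Q).one_mem
  have e : cj Q (O Q).one_mem ⟨g, hg⟩ = ⟨g, hg⟩ := Subtype.ext (by rw [cj_coe]; simp)
  rwa [e] at this

/-- `X` from `XX` of all conjugates -/
theorem X.of_xx (h : ∀ h ∈ O Q, XX φ A (h * g * h⁻¹)) : X φ A g := by
  have h1 : g ∈ E Q := by
    have := (h 1 (O Q).one_mem).1
    simpa using this
  exact ⟨h1, fun k hk => (h k hk).2⟩

theorem X.conj (hg : X φ A g) (hk : k ∈ O Q) : X φ A (k * g * k⁻¹) := by
  obtain ⟨hg, hc⟩ := hg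
  refine ⟨conj_mem_E hk hg, fun h hh => ?_⟩
  have := hc (h * k) ((O Q).mul_mem hh hk)
  have e : cj Q hh ⟨k * g * k⁻¹, conj_mem_E hk hg⟩ = cj Q ((O Q).mul_mem hh hk) ⟨g, hg⟩ := by
    apply Subtype.ext
    rw [cj_coe, cj_coe]
    simp only [mul_assoc, _root_.mul_inv_rev]
  rwa [e]

theorem X.of_conj (hg : X φ A (k * g * k⁻¹)) (hk : k ∈ O Q) : X φ A g := by
  have := hg.conj ((O Q).inv_mem hk)
  simpa only [mul_assoc, _root_.inv_mul_cancel_left, _root_.inv_inv, _root_.inv_mul_cancel, _root_.mul_one] using this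

theorem X.inv (hg : X φ A g) : X φ A g⁻¹ := by
  obtain ⟨hg, hc⟩ := hg
  refine ⟨(E Q).inv_mem hg, fun h hh => ?_⟩
  have := (hc h hh).inv
  rw [← map_inv, ← map_inv] at this
  exact this

section sylow

variable [Finite G] {S : Sylow 2 G}

theorem XX.mul_invol (hA : IsStronglyClosed A (S : Subgroup G)) (hg : XX φ A g) (hk : XX φ A k)
    (h1 : φ (⟨g, hg.1⟩ * ⟨g, hg.1⟩) = 1) (h2 : φ (⟨k, hk.1⟩ * ⟨k, hk.1⟩) = 1) {n : ℕ} (h3 : (g * k) ^ 2 ^ n = 1) :
    XX φ A (g * k) := by
  refine ⟨(E Q).mul_mem hg.1 hk.1, ?_⟩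
  have h4 : φ ⟨g * k, (E Q).mul_mem hg.1 hk.1⟩ = φ ⟨g, hg.1⟩ * φ ⟨k, hk.1⟩ := by
    rw [← map_mul]; rfl
  rw [h4]
  refine Cl.mul_invol hA (by rw [← map_mul]; exact h1) (by rw [← map_mul]; exact h2) (k := n) ?_ hg.2 hk.2
  rw [← map_mul, ← map_pow]
  have h5 : ((⟨g, hg.1⟩ * ⟨k, hk.1⟩ : E Q)) ^ 2 ^ n = 1 := Subtype.ext h3
  rw [h5, map_one]

theorem X.mul_invol (hA : IsStronglyClosed A (S : Subgroup G)) (hg : X φ A g) (hk : X φ A k)
    (h1 : g * g = 1) (h2 : k * k = 1) {n : ℕ} (h3 : (g * k) ^ 2 ^ n = 1) : X φ A (g * k) := by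
  refine ⟨(E Q).mul_mem hg.1 hk.1, fun h hh => ?_⟩
  have e1 : (⟨g, hg.1⟩ * ⟨g, hg.1⟩ : E Q) = 1 := Subtype.ext h1
  have e2 : (⟨k, hk.1⟩ * ⟨k, hk.1⟩ : E Q) = 1 := Subtype.ext h2
  have e3 : (⟨g, hg.1⟩ * ⟨k, hk.1⟩ : E Q) ^ 2 ^ n = 1 := Subtype.ext h3
  have h4 : φ (cj Q hh ⟨g * k, (E Q).mul_mem hg.1 hk.1⟩) = φ (cj Q hh ⟨g, hg.1⟩) * φ (cj Q hh ⟨k, hk.1⟩) := by
    rw [← map_mul, ← map_mul]; rfl
  rw [h4]
  refine Cl.mul_invol hA ?_ ?_ (k := n) ?_ (hg.2 h hh) (hk.2 h hh)
  · rw [← map_mul, ← map_mul, e1, map_one, map_one]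
  · rw [← map_mul, ← map_mul, e2, map_one, map_one]
  · rw [← map_mul, ← map_mul, ← map_pow, ← map_pow, e3, map_one, map_one]

theorem X.mul (hA : IsStronglyClosed A (S : Subgroup G)) {P : Subgroup (V ≃ₗ[F] V)} (hP : IsPGroup 2 P)
    (hgP : g ∈ P) (hkP : k ∈ P) (hg : X φ A g) (hk : X φ A k) : X φ A (g * k) := by
  have hp : Fact (Nat.Prime 2) := ⟨Nat.prime_two⟩
  refine ⟨(E Q).mul_mem hg.1 hk.1, fun h hh => ?_⟩
  have h4 : φ (cj Q hh ⟨g * k, (E Q).mul_mem hg.1 hk.1⟩) = φ (cj Q hh ⟨g, hg.1⟩) * φ (cj Q hh ⟨k, hk.1⟩) := by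
    rw [← map_mul, ← map_mul]; rfl
  rw [h4]
  have hP' : IsPGroup 2 ↥((P.comap (E Q).subtype).map (φ.comp (cj Q hh))) :=
    (hP.comap_of_injective _ (E Q).subtype_injective).map _
  exact Cl.mul hA hP' ⟨⟨g, hg.1⟩, hgP, rfl⟩ ⟨⟨k, hk.1⟩, hkP, rfl⟩ (hg.2 h hh) (hk.2 h hh)

end sylow

end Cfsg.Agent.FooteOrth

end

-- merged: Cfsg.Agent.FooteOrth.Space
section

/-!
# Vectors of given norm (helper17)

* `exists_norm_mem` : a nondegenerate subspace of dimension at least two represents every element of the field;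
* `exists_norm_perp` : vectors of given norm orthogonal to `k` given vectors, dimension at least `2 k + 2`.
-/

set_option autoImplicit false

namespace Cfsg.Agent.FooteOrth

open QuadraticMap
open Cfsg.Agent.LieClassical.OrthCore

variable {F V : Type*} [Field F] [AddCommGroup V] [Module F V] {Q : QuadraticForm F V}

/-- a nondegenerate subspace of dimension at least two represents every element of the field -/
theorem exists_norm_mem [Finite F] (h2 : (2 : F) ≠ 0) (W : Submodule F V)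
    (hW : ∀ x ∈ W, (∀ y ∈ W, polar Q x y = 0) → x = 0) (hd : 2 ≤ Module.finrank F W) (c : F) :
    ∃ v ∈ W, Q v = c := by
  have hfin : Module.Finite F W := Module.finite_of_finrank_pos (by omega)
  obtain ⟨v, hv, hvQ⟩ : ∃ v ∈ W, Q v ≠ 0 := by
    by_contra h
    push Not at h
    have h0 : W = ⊥ := by
      rw [eq_bot_iff]
      intro x hx
      refine (Submodule.mem_bot F).2 (hW x hx fun y hy => ?_)
      rw [polar, h _ (W.add_mem hx hy), h x hx, h y hy]
      ring
    rw [h0, finrank_bot] at hd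
    omega
  have hproj : ∀ x : V, polar Q v (x - (polar Q v x / (2 * Q v)) • v) = 0 := by
    intro x
    rw [polar_sub_right, polar_smul_right, polar_self', smul_eq_mul,
      div_mul_cancel₀ _ (mul_ne_zero h2 hvQ), sub_self]
  obtain ⟨w, hw, hvw, hwQ⟩ : ∃ w ∈ W, polar Q v w = 0 ∧ Q w ≠ 0 := by
    by_contra h
    push Not at h
    have h0 : ∀ x ∈ W, polar Q v x = 0 → x = 0 := by
      intro x hxW hx
      refine hW x hxW fun y hy => ?_
      obtain ⟨y', hy'⟩ : ∃ y', y' = y - (polar Q v y / (2 * Q v)) • v := ⟨_, rfl⟩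
      have hyW : y' ∈ W := by
        rw [hy']
        exact W.sub_mem hy (W.smul_mem _ hv)
      have hye : y = y' + (polar Q v y / (2 * Q v)) • v := by rw [hy']; abel
      have h1 : polar Q v y' = 0 := by rw [hy']; exact hproj y
      rw [hye, polar_add_right, polar_smul_right, polar_comm Q x v, hx,
        smul_zero, add_zero, polar, h x hxW hx, h y' hyW h1, h (x + y') (W.add_mem hxW hyW) (by
          rw [polar_add_right, hx, h1, add_zero])]
      simp
    have h3 : Module.finrank F W ≤ 1 := by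
      apply finrank_le_one (⟨v, hv⟩ : W)
      intro w
      refine ⟨polar Q v w / (2 * Q v), Subtype.ext ?_⟩
      exact (sub_eq_zero.1 (h0 _ (W.sub_mem w.2 (W.smul_mem _ hv)) (hproj w))).symm
    omega
  obtain ⟨x, y, h⟩ := Cfsg.Agent.ClassicalGeometry.Universal.exists_sq_add_sq h2 hvQ hwQ c
  refine ⟨x • v + y • w, W.add_mem (W.smul_mem _ hv) (W.smul_mem _ hw), ?_⟩
  rw [Q_add, QuadraticMap.map_smul, QuadraticMap.map_smul, polar_smul_left,
    polar_smul_right, hvw, smul_zero, smul_zero, add_zero, ← h]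
  simp only [smul_eq_mul]
  ring

/-- vectors of given norm orthogonal to few given vectors -/
theorem exists_norm_perp [Finite F] (hQ : Nondeg Q) (h2 : (2 : F) ≠ 0) {k : ℕ} (u : Fin k → V)
    (hd : 2 * k + 2 ≤ Module.finrank F V) (c : F) : ∃ v, (∀ i, polar Q (u i) v = 0) ∧ Q v = c := by
  have hfin : Module.Finite F V := Module.finite_of_finrank_pos (by omega)
  let f : V →ₗ[F] (Fin k → F) := LinearMap.pi fun i => polarBilin Q (u i)
  have h1 := LinearMap.finrank_range_add_finrank_ker f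
  have h3 : Module.finrank F (LinearMap.range f) ≤ k := by
    refine le_trans (Submodule.finrank_le _) ?_
    rw [Module.finrank_fin_fun]
  obtain ⟨K, hK⟩ : ∃ K, K = LinearMap.ker f := ⟨_, rfl⟩
  rw [← hK] at h1
  have hmem : ∀ x ∈ K, ∀ i, polar Q (u i) x = 0 := by
    intro x hx i
    rw [hK] at hx
    have := congrFun (LinearMap.mem_ker.1 hx) i
    simpa [f] using this
  have hnd : (polarBilin Q).Nondegenerate :=
    ⟨fun x hx => hQ x hx, fun x hx => hQ x fun y => by rw [polar_comm]; exact hx y⟩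
  have hrefl : (polarBilin Q).IsRefl := by
    intro x y h
    rw [polarBilin_apply_apply] at h ⊢
    rw [polar_comm]
    exact h
  have h4 : Module.finrank F (LinearMap.BilinForm.orthogonal (polarBilin Q) K) =
      Module.finrank F V - Module.finrank F K :=
    LinearMap.BilinForm.finrank_orthogonal hnd K
  -- the radical of `K`
  obtain ⟨R, hR⟩ : ∃ R, R = (LinearMap.BilinForm.orthogonal (polarBilin Q) K).comap K.subtype := ⟨_, rfl⟩
  obtain ⟨W, hW⟩ := Submodule.exists_isCompl R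
  have h5 : Module.finrank F R ≤ k := by
    have : Module.finrank F R ≤ Module.finrank F (LinearMap.BilinForm.orthogonal (polarBilin Q) K) := by
      refine LinearMap.finrank_le_finrank_of_injective
        (f := (K.subtype.comp R.subtype).codRestrict _ fun x => ?_) ?_
      · have h8 : ∀ y : K, y ∈ R → (y : V) ∈ LinearMap.BilinForm.orthogonal (polarBilin Q) K := by
          intro y hy
          rw [hR] at hy
          exact hy
        exact h8 x.1 x.2
      · intro x y hxy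
        have := congrArg Subtype.val hxy
        exact Subtype.ext (Subtype.ext this)
    omega
  have h6 := Submodule.finrank_add_eq_of_isCompl hW
  have h7 : 2 ≤ Module.finrank F (W.map K.subtype) := by
    rw [← (Submodule.equivMapOfInjective K.subtype K.injective_subtype W).finrank_eq]
    omega
  obtain ⟨v, hv, hvc⟩ := exists_norm_mem h2 (W.map K.subtype) (by
    rintro _ ⟨x, hx, rfl⟩ h
    have hxR : x ∈ R := by
      rw [hR, Submodule.mem_comap, LinearMap.BilinForm.mem_orthogonal_iff]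
      intro n hn
      show polar Q n (x : V) = 0
      obtain ⟨r, hr, w, hw, hrw⟩ := Submodule.mem_sup.1 (show (⟨n, hn⟩ : K) ∈ R ⊔ W by rw [hW.sup_eq_top]; trivial)
      have e : n = (r : V) + (w : V) := congrArg Subtype.val hrw.symm
      rw [hR, Submodule.mem_comap, LinearMap.BilinForm.mem_orthogonal_iff] at hr
      have h8 : polar Q (x : V) (r : V) = 0 := hr x x.2
      have h9 : polar Q (x : V) (w : V) = 0 := h _ ⟨w, hw, rfl⟩
      rw [e, polar_add_left, polar_comm Q (r : V), polar_comm Q (w : V), h8, h9, add_zero]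
    have h0 := (Submodule.disjoint_def.1 hW.disjoint) x hxR hx
    rw [h0]
    rfl) h7 c
  obtain ⟨x, hx, rfl⟩ := hv
  exact ⟨_, hmem _ x.2, hvc⟩

end Cfsg.Agent.FooteOrth

end

-- merged: Cfsg.Agent.FooteOrth.First
section

/-!
# Products of two reflections (helper17)

`φ : E Q →* G` with kernel in `{1, -1}`, `A ≠ 1` strongly closed in the Sylow 2-subgroup `S` of `G`, `dim V ≥ 7`.

* `exists_pair` : `r_a r_b` is in `XX` for some `a ⊥ b` with `Q a = Q b ≠ 0`;
* `xx_pair` : then for all such `a`, `b`; `x_pair`;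
* `x_refl_mul` : `r_v r_w` is in `X` if `Q v`, `Q w` are in the same square class and `r_v r_w` is a 2-element.
-/

set_option autoImplicit false

namespace Cfsg.Agent.FooteOrth

open QuadraticMap Cfsg Subgroup
open Cfsg.Agent.LieClassical.OrthCore Cfsg.Agent.LieClassical.OrthTrans
open Cfsg.Agent.ClosedTwo.Elem
open Cfsg.Agent.GenOrth (refl_self refl_perp)

variable {F V : Type*} [Field F] [AddCommGroup V] [Module F V] {Q : QuadraticForm F V} {G : Type*} [Group G]

/-- reflections depend on the vector only up to sign -/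
theorem refl_neg {v : V} (hv : Q v ≠ 0) (hv' : Q (-v) ≠ 0) : refl Q (-v) hv' = refl Q v hv := by
  ext x
  rw [refl_apply, refl_apply, QuadraticMap.map_neg, polar_neg_left, smul_neg, mul_neg, neg_smul, neg_neg]

theorem refl_congr {v w : V} (h : v = w) (hv : Q v ≠ 0) (hw : Q w ≠ 0) : refl Q v hv = refl Q w hw := by
  subst h
  rfl

/-- the data of a pair of orthogonal vectors of the same norm -/
structure Pair (Q : QuadraticForm F V) (a b : V) : Prop where
  left : Q a ≠ 0
  right : Q b ≠ 0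
  eq : Q a = Q b
  perp : polar Q a b = 0

/-- the product of the two reflections -/
noncomputable def Pair.t {a b : V} (h : Pair Q a b) : V ≃ₗ[F] V := refl Q a h.left * refl Q b h.right

theorem Pair.comm {a b : V} (h : Pair Q a b) : refl Q a h.left * refl Q b h.right = refl Q b h.right * refl Q a h.left :=
  refl_comm h.left h.right h.perp

theorem Pair.sq {a b : V} (h : Pair Q a b) : h.t * h.t = 1 := by
  have e : h.t * h.t = refl Q a h.left * (refl Q b h.right * refl Q a h.left) * refl Q b h.right := by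
    rw [Pair.t]; group
  rw [e, ← h.comm, ← mul_assoc, refl_mul_self, one_mul, refl_mul_self]

theorem Pair.map {a b : V} (h : Pair Q a b) {g : V ≃ₗ[F] V} (hg : g ∈ O Q) : Pair Q (g a) (g b) where
  left := by rw [mem_O.1 hg]; exact h.left
  right := by rw [mem_O.1 hg]; exact h.right
  eq := by rw [mem_O.1 hg, mem_O.1 hg]; exact h.eq
  perp := by rw [polar_map hg]; exact h.perp

theorem Pair.conj {a b : V} (h : Pair Q a b) {g : V ≃ₗ[F] V} (hg : g ∈ O Q) :
    g * h.t * g⁻¹ = (h.map hg).t := by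
  rw [Pair.t, Pair.t, ← refl_conj hg h.left (h.map hg).left, ← refl_conj hg h.right (h.map hg).right]
  group

theorem Pair.mem_E (hG : Good Q) {a b : V} (h : Pair Q a b) : h.t ∈ E Q :=
  hG.refl_mul_refl_mem h.right h.left h.eq.symm

/-! ### An involution of `E Q` in `XX` -/

/-- the eigenspaces of `g` -/
def Eig (g : V ≃ₗ[F] V) (ε : F) : Submodule F V where
  carrier := {v | g v = ε • v}
  add_mem' {a b} ha hb := by
    show g (a + b) = ε • (a + b)
    rw [map_add, ha, hb, smul_add]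
  zero_mem' := by
    show g 0 = ε • 0
    rw [map_zero, smul_zero]
  smul_mem' c x hx := by
    show g (c • x) = ε • c • x
    rw [map_smul, hx, smul_comm]

theorem mem_Eig {g : V ≃ₗ[F] V} {ε : F} {v : V} : v ∈ Eig g ε ↔ g v = ε • v := Iff.rfl

theorem Eig_nondeg (hQ : Nondeg Q) (h2 : (2 : F) ≠ 0) {g : V ≃ₗ[F] V} (hg : g ∈ O Q) (hgg : g * g = 1) {ε : F}
    (hε : ε * ε = 1) {x : V} (hx : x ∈ Eig g ε) (h : ∀ y ∈ Eig g ε, polar Q x y = 0) : x = 0 := by
  have hgv : ∀ v, g (g v) = v := fun v => DFunLike.congr_fun hgg v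
  apply hQ
  intro y
  have h1 : y + ε • g y ∈ Eig g ε := by
    rw [mem_Eig, map_add, map_smul, hgv, smul_add, smul_smul, hε, one_smul, add_comm]
  have h3 := h _ h1
  have h4 : polar Q x y = ε * polar Q x (g y) := by
    rw [← polar_map hg, mem_Eig.1 hx, polar_smul_left, smul_eq_mul]
  rw [polar_add_right, polar_smul_right, smul_eq_mul, ← h4] at h3
  have h5 : (2 : F) * polar Q x y = 0 := by linear_combination h3
  exact (mul_eq_zero.1 h5).resolve_left h2

theorem Eig_isCompl (h2 : (2 : F) ≠ 0) {g : V ≃ₗ[F] V} (hgg : g * g = 1) {ε : F} (hε : ε * ε = 1) :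
    IsCompl (Eig g ε) (Eig g (-ε)) := by
  have hgv : ∀ v, g (g v) = v := fun v => DFunLike.congr_fun hgg v
  have hε0 : ε ≠ 0 := by
    rintro rfl
    rw [mul_zero] at hε
    exact zero_ne_one hε
  refine ⟨Submodule.disjoint_def.2 fun x hx hx' => ?_, codisjoint_iff.2 (eq_top_iff.2 fun x _ => ?_)⟩
  · rw [mem_Eig] at hx hx'
    rw [hx, neg_smul] at hx'
    have h3 : ((2 : F) * ε) • x = 0 := by
      rw [mul_smul, two_smul]
      nth_rewrite 1 [hx']
      exact neg_add_cancel _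
    exact (smul_eq_zero.1 h3).resolve_left (mul_ne_zero h2 hε0)
  · have e : x = (2 : F)⁻¹ • (x + ε • g x) + (2 : F)⁻¹ • (x - ε • g x) := by
      rw [← smul_add, show x + ε • g x + (x - ε • g x) = (2 : F) • x by rw [two_smul]; abel, smul_smul,
        inv_mul_cancel₀ h2, one_smul]
    rw [e]
    refine Submodule.add_mem_sup (Submodule.smul_mem _ _ ?_) (Submodule.smul_mem _ _ ?_)
    · rw [mem_Eig, map_add, map_smul, hgv, smul_add, smul_smul, hε, one_smul, add_comm]
    · rw [mem_Eig, map_sub, map_smul, hgv, smul_sub, smul_smul]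
      rw [show -ε * ε = -1 by rw [neg_mul, hε], neg_smul, neg_smul, one_smul]
      abel

variable {φ : E Q →* G} {A : Subgroup G} [Finite G] {S : Sylow 2 G}

/-- the main step for an involution `g`, `dim Eig g ε ≥ 2` and `Eig g (-ε) ≠ 0` -/
theorem pair_of_eig [Finite F] (hG : Good Q) (h2 : (2 : F) ≠ 0) (hA : IsStronglyClosed A (S : Subgroup G))
    {g : V ≃ₗ[F] V} (hg : XX φ A g) (hgg : g * g = 1) {ε : F} (hε : ε * ε = 1)
    (h3 : 2 ≤ Module.finrank F (Eig g ε)) (h4 : Eig g (-ε) ≠ ⊥) :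
    ∃ (a b : V) (h : Pair Q a b), XX φ A h.t := by
  have hgO : g ∈ O Q := E_le_O hg.1
  have hε' : (-ε) * (-ε) = 1 := by rw [neg_mul_neg, hε]
  obtain ⟨v, hv, hvQ⟩ : ∃ v ∈ Eig g (-ε), Q v ≠ 0 := by
    by_contra h
    push Not at h
    apply h4
    rw [eq_bot_iff]
    intro x hx
    refine (Submodule.mem_bot F).2 (Eig_nondeg hG.nondeg h2 hgO hgg hε' hx fun y hy => ?_)
    rw [polar, h _ ((Eig g (-ε)).add_mem hx hy), h x hx, h y hy]
    ring
  have hnd : ∀ x ∈ Eig g ε, (∀ y ∈ Eig g ε, polar Q x y = 0) → x = 0 := fun x hx h =>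
    Eig_nondeg hG.nondeg h2 hgO hgg hε hx h
  obtain ⟨u, hu, huQ⟩ := exists_norm_mem h2 (Eig g ε) hnd h3 (Q v)
  obtain ⟨w, hw, hwQ⟩ := exists_norm_mem h2 (Eig g ε) hnd h3 (2 * Q v)
  rw [mem_Eig] at hv hu hw
  have hε0 : ε ≠ 0 := by
    rintro rfl
    rw [mul_zero] at hε
    exact zero_ne_one hε
  have hvu : polar Q v u = 0 := by
    have h5 := polar_map hgO v u
    rw [hv, hu, polar_smul_left, polar_smul_right, smul_eq_mul, smul_eq_mul, ← mul_assoc, neg_mul, hε] at h5
    have h6 : (2 : F) * polar Q v u = 0 := by linear_combination -h5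
    exact (mul_eq_zero.1 h6).resolve_left h2
  have hQm : Q (v - u) = 2 * Q v := by
    rw [sub_eq_add_neg, Q_add, QuadraticMap.map_neg, polar_neg_right, hvu, huQ]; ring
  have hQp : Q (v + u) = 2 * Q v := by
    rw [Q_add, hvu, huQ]; ring
  have hne : (2 : F) * Q v ≠ 0 := mul_ne_zero h2 hvQ
  have hm0 : Q (v - u) ≠ 0 := by rw [hQm]; exact hne
  have hp0 : Q (v + u) ≠ 0 := by rw [hQp]; exact hne
  have hw0 : Q w ≠ 0 := by rw [hwQ]; exact hne
  have hh : refl Q (v - u) hm0 * refl Q w hw0 ∈ E Q := hG.refl_mul_refl_mem hw0 hm0 (by rw [hwQ, hQm])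
  have hPair : Pair Q (v + u) (v - u) := by
    refine ⟨hp0, hm0, by rw [hQm, hQp], ?_⟩
    rw [polar_add_left, polar_sub_right, polar_sub_right, hvu, polar_comm Q u v, hvu, polar_self', polar_self', huQ]
    ring
  refine ⟨v + u, v - u, hPair, ?_⟩
  have hgw : Q (g w) ≠ 0 := by rw [mem_O.1 hgO]; exact hw0
  have e1 : g * refl Q w hw0 * g⁻¹ = refl Q w hw0 := by
    rw [refl_conj hgO hw0 hgw]
    have : Q (ε • w) ≠ 0 := by rw [← hw]; exact hgw
    rw [refl_congr hw hgw this, refl_smul hw0 hε0 this]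
  have hgm : Q (g (v - u)) ≠ 0 := by rw [mem_O.1 hgO]; exact hm0
  have e2 : g * refl Q (v - u) hm0 * g⁻¹ = refl Q (v + u) hp0 := by
    rw [refl_conj hgO hm0 hgm]
    have h5 : g (v - u) = (-ε) • (v + u) := by
      rw [map_sub, hv, hu, smul_add, neg_smul, neg_smul]
      abel
    have : Q ((-ε) • (v + u)) ≠ 0 := by rw [← h5]; exact hgm
    rw [refl_congr h5 hgm this, refl_smul hp0 (neg_ne_zero.2 hε0) this]
  have hgi : g⁻¹ = g := inv_eq_of_mul_eq_one_right hgg
  obtain ⟨r, hr⟩ : ∃ r, r = refl Q (v - u) hm0 := ⟨_, rfl⟩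
  obtain ⟨s, hs⟩ : ∃ s, s = refl Q w hw0 := ⟨_, rfl⟩
  have hri : r⁻¹ = r := by rw [hr]; exact refl_inv hm0
  rw [← hr] at hh e2
  rw [← hs] at hh e1
  have e3 : (r * s) * g * (r * s)⁻¹ = r * g * r := by
    have e4 : s * g = g * s := by
      have e5 : g * s * g⁻¹ * g = s * g := by rw [e1]
      rw [← e5]; group
    calc (r * s) * g * (r * s)⁻¹ = r * (s * g) * s⁻¹ * r⁻¹ := by group
      _ = r * g * r := by rw [e4, hri]; group
  have hg' : XX φ A (r * g * r) := by
    rw [← e3]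
    exact hg.conj hh
  have e6 : g * (r * g * r) = hPair.t := by
    rw [Pair.t, ← e2, hgi, ← hr]
    group
  rw [← e6]
  have hg2 : ∀ (k : V ≃ₗ[F] V) (hk : k ∈ E Q), k * k = 1 → φ (⟨k, hk⟩ * ⟨k, hk⟩) = 1 := by
    intro k hk h
    have : (⟨k, hk⟩ * ⟨k, hk⟩ : E Q) = 1 := Subtype.ext h
    rw [this, map_one]
  refine XX.mul_invol hA hg hg' (hg2 _ _ hgg) (hg2 _ _ ?_) (n := 1) ?_
  · have hrr : r * r = 1 := by rw [hr]; exact refl_mul_self hm0
    calc r * g * r * (r * g * r) = r * g * (r * r) * g * r := by group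
      _ = r * (g * g) * r := by rw [hrr]; group
      _ = 1 := by rw [hgg, mul_one, hrr]
  · rw [pow_one, pow_two, e6]
    exact hPair.sq

theorem pair_of_invol [Finite F] (hG : Good Q) (h2 : (2 : F) ≠ 0) (hA : IsStronglyClosed A (S : Subgroup G))
    {g : V ≃ₗ[F] V} (hg : XX φ A g) (hgg : g * g = 1) (h3 : ∃ v, g v ≠ v) (h4 : ∃ v, g v ≠ -v) :
    ∃ (a b : V) (h : Pair Q a b), XX φ A h.t := by
  have hfin : Module.Finite F V := Module.finite_of_finrank_pos (by have := hG.dim; omega)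
  have hc := Eig_isCompl h2 hgg (ε := 1) (one_mul 1)
  have hd := Submodule.finrank_add_eq_of_isCompl hc
  have h5 := hG.dim
  have hb : Eig g (-1) ≠ ⊥ := by
    intro h0
    have h1 := hc.sup_eq_top
    rw [h0, sup_bot_eq] at h1
    obtain ⟨v, hv⟩ := h3
    have : v ∈ Eig g 1 := by rw [h1]; trivial
    rw [mem_Eig, one_smul] at this
    exact hv this
  have hb' : Eig g 1 ≠ ⊥ := by
    intro h0
    have h1 := hc.sup_eq_top
    rw [h0, bot_sup_eq] at h1
    obtain ⟨v, hv⟩ := h4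
    have : v ∈ Eig g (-1) := by rw [h1]; trivial
    rw [mem_Eig, neg_smul, one_smul] at this
    exact hv this
  by_cases h6 : 2 ≤ Module.finrank F (Eig g 1)
  · exact pair_of_eig hG h2 hA hg hgg (one_mul 1) h6 hb
  · exact pair_of_eig hG h2 hA hg hgg (ε := -1) (by ring) (by omega) (by rw [neg_neg]; exact hb')

/-- `g² = -1` -/
theorem invol_of_four [Finite F] (hG : Good Q) (hd : 7 ≤ Module.finrank F V) (h2 : (2 : F) ≠ 0)
    (hker : ∀ k : E Q, (∀ v, (k : V ≃ₗ[F] V) v = -v) → φ k = 1)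
    (hA : IsStronglyClosed A (S : Subgroup G)) {g : V ≃ₗ[F] V} (hg : XX φ A g) (hgg : ∀ v, g (g v) = -v) :
    ∃ k : V ≃ₗ[F] V, XX φ A k ∧ k * k = 1 ∧ (∃ v, k v ≠ v) ∧ (∃ v, k v ≠ -v) := by
  have hgO : g ∈ O Q := E_le_O hg.1
  obtain ⟨v, -, hv1⟩ := exists_norm_perp hG.nondeg h2 (![] : Fin 0 → V) (by omega) 1
  have hv : Q v ≠ 0 := by rw [hv1]; exact one_ne_zero
  obtain ⟨w, hwp, hw1⟩ := exists_norm_perp hG.nondeg h2 ![v, g v] (by omega) 1
  have hw : Q w ≠ 0 := by rw [hw1]; exact one_ne_zero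
  have hvw : polar Q v w = 0 := hwp 0
  have hgvw : polar Q (g v) w = 0 := hwp 1
  have hgvv : polar Q (g v) v = 0 := by
    have h5 := polar_map hgO (g v) v
    rw [hgg, polar_neg_left, polar_comm Q v] at h5
    have h6 : (2 : F) * polar Q (g v) v = 0 := by linear_combination -h5
    exact (mul_eq_zero.1 h6).resolve_left h2
  have hgww : polar Q (g w) w = 0 := by
    have h5 := polar_map hgO (g w) w
    rw [hgg, polar_neg_left, polar_comm Q w] at h5
    have h6 : (2 : F) * polar Q (g w) w = 0 := by linear_combination -h5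
    exact (mul_eq_zero.1 h6).resolve_left h2
  have hgwv : polar Q (g w) v = 0 := by
    have h5 := polar_map hgO (g w) v
    rw [hgg, polar_neg_left, polar_comm Q w, hgvw, neg_zero] at h5
    exact h5.symm
  have hgvgw : polar Q (g v) (g w) = 0 := by rw [polar_map hgO]; exact hvw
  have hgv : Q (g v) ≠ 0 := by rw [mem_O.1 hgO]; exact hv
  have hgw : Q (g w) ≠ 0 := by rw [mem_O.1 hgO]; exact hw
  have hh : refl Q v hv * refl Q w hw ∈ E Q := hG.refl_mul_refl_mem hw hv (by rw [hv1, hw1])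
  obtain ⟨r, hr⟩ : ∃ r, r = refl Q v hv := ⟨_, rfl⟩
  obtain ⟨s, hs⟩ : ∃ s, s = refl Q w hw := ⟨_, rfl⟩
  obtain ⟨r', hr'⟩ : ∃ r', r' = refl Q (g v) hgv := ⟨_, rfl⟩
  obtain ⟨s', hs'⟩ : ∃ s', s' = refl Q (g w) hgw := ⟨_, rfl⟩
  have e1 : g * r * g⁻¹ = r' := by rw [hr, hr']; exact refl_conj hgO hv hgv
  have e2 : g * s * g⁻¹ = s' := by rw [hs, hs']; exact refl_conj hgO hw hgw
  have e3 : g * r' * g⁻¹ = r := by
    have h0 : Q (g (g v)) ≠ 0 := by rw [hgg, QuadraticMap.map_neg]; exact hv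
    rw [hr', hr, refl_conj hgO hgv h0]
    have h1 : Q (-v) ≠ 0 := by rw [QuadraticMap.map_neg]; exact hv
    rw [refl_congr (hgg v) h0 h1, refl_neg hv h1]
  have e4 : g * s' * g⁻¹ = s := by
    have h0 : Q (g (g w)) ≠ 0 := by rw [hgg, QuadraticMap.map_neg]; exact hw
    rw [hs', hs, refl_conj hgO hgw h0]
    have h1 : Q (-w) ≠ 0 := by rw [QuadraticMap.map_neg]; exact hw
    rw [refl_congr (hgg w) h0 h1, refl_neg hw h1]
  have hrr : r * r = 1 := by rw [hr]; exact refl_mul_self hv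
  have hss : s * s = 1 := by rw [hs]; exact refl_mul_self hw
  have hrr' : r' * r' = 1 := by rw [hr']; exact refl_mul_self hgv
  have hss' : s' * s' = 1 := by rw [hs']; exact refl_mul_self hgw
  have hri : r⁻¹ = r := inv_eq_of_mul_eq_one_right hrr
  have hsi : s⁻¹ = s := inv_eq_of_mul_eq_one_right hss
  have c1 : r * s = s * r := by rw [hr, hs]; exact refl_comm hv hw hvw
  have c2 : r' * s' = s' * r' := by rw [hr', hs']; exact refl_comm hgv hgw hgvgw
  have c3 : r' * s = s * r' := by rw [hr', hs]; exact refl_comm hgv hw hgvw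
  have c4 : r' * r = r * r' := by rw [hr', hr]; exact refl_comm hgv hv hgvv
  have c5 : s' * s = s * s' := by rw [hs', hs]; exact refl_comm hgw hw hgww
  have c6 : s' * r = r * s' := by rw [hs', hr]; exact refl_comm hgw hv hgwv
  rw [← hr, ← hs] at hh
  -- the commutator
  have hk1 : XX φ A ((r * s) * g * (r * s)⁻¹) := hg.conj hh
  have hg1 : XX φ A g⁻¹ := ⟨(E Q).inv_mem hg.1, by
    have := hg.2.inv
    rw [← map_inv] at this
    exact this⟩
  have e5 : g⁻¹ * ((r * s) * g * (r * s)⁻¹) = r' * s' * (s * r) := by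
    have e6 : g⁻¹ * r * g = r' := by
      rw [← e3]; group
    have e7 : g⁻¹ * s * g = s' := by
      rw [← e4]; group
    calc g⁻¹ * ((r * s) * g * (r * s)⁻¹) = (g⁻¹ * r * g) * (g⁻¹ * s * g) * (s⁻¹ * r⁻¹) := by group
      _ = r' * s' * (s * r) := by rw [e6, e7, hri, hsi]
  have hkk : (r' * s' * (s * r)) * (r' * s' * (s * r)) = 1 := by
    have h1 : (s * r) * (r' * s') = (r' * s') * (s * r) := by
      calc (s * r) * (r' * s') = s * (r * r') * s' := by group
        _ = (s * r') * (r * s') := by rw [← c4]; group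
        _ = r' * (s * s') * r := by rw [← c3, ← c6]; group
        _ = (r' * s') * (s * r) := by rw [← c5]; group
    calc (r' * s' * (s * r)) * (r' * s' * (s * r)) = (r' * s') * ((s * r) * (r' * s')) * (s * r) := by group
      _ = (r' * s') * (r' * s') * ((s * r) * (s * r)) := by rw [h1]; group
      _ = (r' * s') * (s' * r') * ((s * r) * (r * s)) := by rw [← c2, ← c1]
      _ = 1 := by
        rw [show (r' * s') * (s' * r') = r' * (s' * s') * r' by group, hss', mul_one, hrr',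
          show (s * r) * (r * s) = s * (r * r) * s by group, hrr, mul_one, hss, mul_one]
  have hφ : ∀ (k : V ≃ₗ[F] V) (hk : k ∈ E Q), (∀ v, k (k v) = -v) → φ (⟨k, hk⟩ * ⟨k, hk⟩) = 1 :=
    fun k hk h => hker _ fun v => h v
  refine ⟨r' * s' * (s * r), ?_, hkk, ⟨v, ?_⟩, ?_⟩
  · rw [← e5]
    refine XX.mul_invol hA hg1 hk1 (hφ _ _ fun x => ?_) (hφ _ _ fun x => ?_) (n := 1) ?_
    · obtain ⟨y, rfl⟩ := g.surjective x
      obtain ⟨y, rfl⟩ := g.surjective y
      have h1 : g⁻¹ (g⁻¹ (g (g y))) = y := by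
        show g.symm (g.symm (g (g y))) = y
        rw [LinearEquiv.symm_apply_apply, LinearEquiv.symm_apply_apply]
      rw [h1, hgg, neg_neg]
    · have h1 : (((r * s) * g * (r * s)⁻¹) * ((r * s) * g * (r * s)⁻¹)) x = -x := by
        have h3 : ((r * s) * g * (r * s)⁻¹) * ((r * s) * g * (r * s)⁻¹) = (r * s) * (g * g) * (r * s)⁻¹ := by
          group
        rw [h3]
        obtain ⟨y, rfl⟩ := (r * s).surjective x
        show (r * s) (g (g ((r * s).symm ((r * s) y)))) = _
        rw [LinearEquiv.symm_apply_apply, hgg, map_neg]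
      exact h1
    · rw [pow_one, pow_two, e5]
      exact hkk
  · have h1 : (r' * s' * (s * r)) v = -v := by
      show r' (s' (s (r v))) = -v
      rw [hr, refl_self hv, map_neg, hs, refl_perp hw (by rw [polar_comm]; exact hvw), map_neg, hs',
        refl_perp hgw hgwv, map_neg, hr', refl_perp hgv hgvv]
    rw [h1]
    intro h3
    have h4 : (2 : F) • v = 0 := by
      rw [two_smul]
      nth_rewrite 1 [← h3]
      exact neg_add_cancel v
    have h5 := (smul_eq_zero.1 h4).resolve_left h2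
    rw [h5, QuadraticMap.map_zero] at hv1
    exact zero_ne_one hv1
  · obtain ⟨x, hx0, hx⟩ := exists_perp_ne (Q := Q) ![v, w, g v, g w] (by omega)
    have hx1 : polar Q v x = 0 := hx 0
    have hx2 : polar Q w x = 0 := hx 1
    have hx3 : polar Q (g v) x = 0 := hx 2
    have hx4 : polar Q (g w) x = 0 := hx 3
    refine ⟨x, ?_⟩
    have h1 : (r' * s' * (s * r)) x = x := by
      show r' (s' (s (r x))) = x
      rw [hr, refl_perp hv hx1, hs, refl_perp hw hx2, hs', refl_perp hgw hx4, hr', refl_perp hgv hx3]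
    rw [h1]
    intro h3
    have h4 : (2 : F) • x = 0 := by
      rw [two_smul]
      nth_rewrite 1 [h3]
      exact neg_add_cancel x
    exact hx0 ((smul_eq_zero.1 h4).resolve_left h2)

/-- **Step 1.** -/
theorem exists_pair [Finite F] (hG : Good Q) (hd : 7 ≤ Module.finrank F V) (h2 : (2 : F) ≠ 0)
    (hsur : Function.Surjective φ) (hker : ∀ k : E Q, (∀ v, (k : V ≃ₗ[F] V) v = -v) → φ k = 1)
    (hker' : ∀ k : E Q, φ k = 1 → ∃ c : F, (c = 1 ∨ c = -1) ∧ ∀ v, (k : V ≃ₗ[F] V) v = c • v)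
    (hA : IsStronglyClosed A (S : Subgroup G)) (hA1 : A ≠ ⊥) :
    ∃ (a b : V) (h : Pair Q a b), XX φ A h.t := by
  obtain ⟨t, htA, htt, ht1⟩ := exists_involution hA hA1
  obtain ⟨g, rfl⟩ := hsur t
  have hg : XX φ A (g : V ≃ₗ[F] V) := ⟨g.2, cl_of_mem htA⟩
  have hn1 : ∃ v, (g : V ≃ₗ[F] V) v ≠ v := by
    by_contra h
    push Not at h
    apply ht1
    have : g = 1 := Subtype.ext (LinearEquiv.ext h)
    rw [this, map_one]
  have hn2 : ∃ v, (g : V ≃ₗ[F] V) v ≠ -v := by
    by_contra h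
    push Not at h
    exact ht1 (hker g h)
  rw [← map_mul] at htt
  obtain ⟨c, hc, hcv⟩ := hker' _ htt
  rcases hc with rfl | rfl
  · refine pair_of_invol hG h2 hA hg ?_ hn1 hn2
    ext v
    have := hcv v
    rw [one_smul] at this
    exact this
  · obtain ⟨k, hk, hkk, h5, h6⟩ := invol_of_four hG hd h2 hker hA hg (fun v => by
      have := hcv v
      rw [neg_smul, one_smul] at this
      exact this)
    exact pair_of_invol hG h2 hA hk hkk h5 h6

/-! ### All pairs -/

theorem Pair.ne_zero {a b : V} (h : Pair Q a b) : a ≠ 0 ∧ b ≠ 0 := by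
  refine ⟨?_, ?_⟩
  · rintro rfl
    exact h.left (QuadraticMap.map_zero Q)
  · rintro rfl
    exact h.right (QuadraticMap.map_zero Q)

/-- change of the norm -/
theorem Pair.rotate {a b : V} (h : Pair Q a b) {x y : F} (hxy : x * x + y * y ≠ 0) :
    ∃ h' : Pair Q (x • a + y • b) (-y • a + x • b), h'.t = h.t ∧ Q (x • a + y • b) = (x * x + y * y) * Q a := by
  have e1 : Q (x • a + y • b) = (x * x + y * y) * Q a := by
    rw [Q_add, QuadraticMap.map_smul, QuadraticMap.map_smul, polar_smul_left, polar_smul_right, h.perp, ← h.eq]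
    simp only [smul_eq_mul]
    ring
  have e2 : Q (-y • a + x • b) = (x * x + y * y) * Q a := by
    rw [Q_add, QuadraticMap.map_smul, QuadraticMap.map_smul, polar_smul_left, polar_smul_right, h.perp, ← h.eq]
    simp only [smul_eq_mul]
    ring
  have hne : (x * x + y * y) * Q a ≠ 0 := mul_ne_zero hxy h.left
  have hba : polar Q b a = 0 := by rw [polar_comm]; exact h.perp
  have h' : Pair Q (x • a + y • b) (-y • a + x • b) := by
    refine ⟨by rw [e1]; exact hne, by rw [e2]; exact hne, by rw [e1, e2], ?_⟩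
    simp only [polar_add_left, polar_add_right, polar_smul_left, polar_smul_right, h.perp, hba, polar_self', smul_eq_mul,
      ← h.eq]
    ring
  refine ⟨h', ?_, e1⟩
  ext z
  show refl Q _ h'.left (refl Q _ h'.right z) = refl Q _ h.left (refl Q _ h.right z)
  have h3 := h.left
  have h'p := h'.perp
  have hp := h.perp
  rw [refl_apply, refl_apply, refl_apply, refl_apply]
  rw [polar_sub_right, polar_smul_right, h'p, polar_sub_right, polar_smul_right, hp, e1, e2, ← h.eq]
  obtain ⟨D, hD⟩ : ∃ D, D = x * x + y * y := ⟨_, rfl⟩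
  rw [← hD] at hxy ⊢
  simp only [polar_add_left, polar_smul_left, smul_eq_mul]
  match_scalars
  · ring
  · field_simp
    rw [hD]
    ring
  · field_simp
    rw [hD]
    ring

/-- pairs of the same norm are conjugate in `E Q` -/
theorem Pair.trans [Finite F] (hG : Good Q) (hd : 7 ≤ Module.finrank F V) (h2 : (2 : F) ≠ 0) {a b a' b' : V}
    (h : Pair Q a b) (h' : Pair Q a' b') (hq : Q a = Q a') : ∃ g ∈ E Q, g * h.t * g⁻¹ = h'.t := by
  obtain ⟨g, hg, hga⟩ := hG.trans_norm h.ne_zero.1 h'.ne_zero.1 hq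
  have hgO := E_le_O hg
  -- reduce to `a = a'`
  have key : ∀ {b₁ b₂ : V} (h₁ : Pair Q a' b₁) (h₂ : Pair Q a' b₂), ∃ g ∈ E Q, g * h₁.t * g⁻¹ = h₂.t := by
    intro b₁ b₂ h₁ h₂
    obtain ⟨s, hs, hsQ⟩ : ∃ s : F, (s = 1 ∨ s = -1) ∧ Q (b₁ - s • b₂) ≠ 0 := by
      by_contra hcon
      push Not at hcon
      have e1 := hcon 1 (Or.inl rfl)
      have e2 := hcon (-1) (Or.inr rfl)
      rw [one_smul, sub_eq_add_neg, Q_add, QuadraticMap.map_neg, polar_neg_right] at e1
      rw [neg_smul, one_smul, sub_neg_eq_add, Q_add] at e2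
      rw [← h₂.eq, h₁.eq] at e1 e2
      have e3 : (2 * 2 : F) * Q b₁ = 0 := by linear_combination e1 + e2
      exact mul_ne_zero (mul_ne_zero h2 h2) h₁.right e3
    have hss : s * s = 1 := by rcases hs with rfl | rfl <;> ring
    have hs0 : s ≠ 0 := by
      rintro rfl
      rw [mul_zero] at hss
      exact zero_ne_one hss
    have hqs : Q (s • b₂) = Q b₁ := by
      rw [QuadraticMap.map_smul, hss, smul_eq_mul, one_mul, ← h₂.eq, h₁.eq]
    obtain ⟨z, hz, hzQ⟩ := exists_norm_perp hG.nondeg h2 ![a', b₁] (by omega) (Q (b₁ - s • b₂))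
    have hz1 : polar Q a' z = 0 := hz 0
    have hz2 : polar Q b₁ z = 0 := hz 1
    have hz0 : Q z ≠ 0 := by rw [hzQ]; exact hsQ
    have hh : refl Q (b₁ - s • b₂) hsQ * refl Q z hz0 ∈ E Q := hG.refl_mul_refl_mem hz0 hsQ hzQ
    refine ⟨_, hh, ?_⟩
    rw [h₁.conj (E_le_O hh)]
    have ea : (refl Q (b₁ - s • b₂) hsQ * refl Q z hz0) a' = a' := by
      show refl Q (b₁ - s • b₂) hsQ (refl Q z hz0 a') = a'
      rw [refl_perp hz0 (by rw [polar_comm]; exact hz1), refl_perp hsQ]
      rw [polar_sub_left, polar_smul_left, polar_comm Q b₁, polar_comm Q b₂, h₁.perp, h₂.perp, smul_zero, sub_zero]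
    have eb : (refl Q (b₁ - s • b₂) hsQ * refl Q z hz0) b₁ = s • b₂ := by
      show refl Q (b₁ - s • b₂) hsQ (refl Q z hz0 b₁) = s • b₂
      rw [refl_perp hz0 (by rw [polar_comm]; exact hz2), refl_sub_apply hqs hsQ]
    have h3 : Q (s • b₂) ≠ 0 := by rw [hqs]; exact h₁.right
    rw [Pair.t, Pair.t, refl_congr ea _ h₂.left, refl_congr eb _ h3, refl_smul h₂.right hs0 h3]
  subst hga
  obtain ⟨k, hk, hke⟩ := key (h.map hgO) h'
  refine ⟨k * g, (E Q).mul_mem hk hg, ?_⟩
  rw [← hke, ← h.conj hgO]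
  group

omit [Finite G] in
/-- **Step 2.** -/
theorem xx_pair [Finite F] (hG : Good Q) (hd : 7 ≤ Module.finrank F V) (h2 : (2 : F) ≠ 0)
    (hex : ∃ (a b : V) (h : Pair Q a b), XX φ A h.t) {a b : V} (h : Pair Q a b) : XX φ A h.t := by
  obtain ⟨a', b', h', hx⟩ := hex
  obtain ⟨x, y, hxy⟩ := Cfsg.Agent.ClassicalGeometry.Universal.exists_sq_add_sq h2 (one_ne_zero (α := F))
    (one_ne_zero (α := F)) (Q a / Q a')
  have h3 : x * x + y * y = Q a / Q a' := by rw [← hxy]; ring
  have h4 : x * x + y * y ≠ 0 := by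
    rw [h3]
    exact div_ne_zero h.left h'.left
  obtain ⟨h'', ht, hq⟩ := h'.rotate h4
  rw [h3, div_mul_cancel₀ _ h'.left] at hq
  obtain ⟨g, hg, hge⟩ := Pair.trans hG hd h2 h'' h hq
  rw [← hge, ht]
  exact hx.conj hg

omit [Finite G] in
theorem x_pair [Finite F] (hG : Good Q) (hd : 7 ≤ Module.finrank F V) (h2 : (2 : F) ≠ 0)
    (hex : ∃ (a b : V) (h : Pair Q a b), XX φ A h.t) {a b : V} (h : Pair Q a b) : X φ A h.t :=
  X.of_xx fun k hk => by
    rw [h.conj hk]
    exact xx_pair hG hd h2 hex _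

/-- **Step 3.** -/
theorem x_refl_mul [Finite F] (hG : Good Q) (hd : 7 ≤ Module.finrank F V) (h2 : (2 : F) ≠ 0)
    (hA : IsStronglyClosed A (S : Subgroup G)) (hex : ∃ (a b : V) (h : Pair Q a b), XX φ A h.t) {v w : V}
    (hv : Q v ≠ 0) (hw : Q w ≠ 0) (hs : IsSquare (Q v) ↔ IsSquare (Q w)) {n : ℕ}
    (hn : (refl Q v hv * refl Q w hw) ^ 2 ^ n = 1) : X φ A (refl Q v hv * refl Q w hw) := by
  -- scale `w`
  obtain ⟨c, hc⟩ : IsSquare (Q v * Q w) :=
    (Cfsg.Agent.ClassicalGeometry.Universal.isSquare_mul_iff h2 hv hw).2 hs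
  have hc0 : c ≠ 0 := by
    rintro rfl
    rw [mul_zero] at hc
    exact mul_ne_zero hv hw hc
  have hl0 : c / Q w ≠ 0 := div_ne_zero hc0 hw
  have hq : Q ((c / Q w) • w) = Q v := by
    rw [QuadraticMap.map_smul, smul_eq_mul]
    field_simp
    rw [pow_two, ← hc]
    ring
  have hw' : Q ((c / Q w) • w) ≠ 0 := by rw [hq]; exact hv
  rw [← refl_smul hw hl0 hw'] at hn ⊢
  obtain ⟨w', hw'e⟩ : ∃ w', w' = (c / Q w) • w := ⟨_, rfl⟩
  have hw1 : Q w' ≠ 0 := by rw [hw'e]; exact hw'
  rw [refl_congr hw'e.symm hw' hw1] at hn ⊢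
  rw [← hw'e] at hq
  obtain ⟨z, hz, hzQ⟩ := exists_norm_perp hG.nondeg h2 ![v, w'] (by omega) (Q v)
  have hz1 : polar Q v z = 0 := hz 0
  have hz2 : polar Q w' z = 0 := hz 1
  have hz0 : Q z ≠ 0 := by rw [hzQ]; exact hv
  have p1 : Pair Q v z := ⟨hv, hz0, hzQ.symm, hz1⟩
  have p2 : Pair Q z w' := ⟨hz0, hw1, by rw [hzQ, hq], by rw [polar_comm]; exact hz2⟩
  have e : refl Q v hv * refl Q w' hw1 = p1.t * p2.t := by
    rw [Pair.t, Pair.t]
    have := refl_mul_self (Q := Q) hz0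
    calc refl Q v hv * refl Q w' hw1 = refl Q v hv * (refl Q z hz0 * refl Q z hz0) * refl Q w' hw1 := by
          rw [this, mul_one]
      _ = _ := by group
  rw [e] at hn ⊢
  exact X.mul_invol hA (x_pair hG hd h2 hex p1) (x_pair hG hd h2 hex p2) p1.sq p2.sq hn

end Cfsg.Agent.FooteOrth

end

-- merged: Cfsg.Agent.FooteOrth.Wreath
section

/-!
# A wreath product in a general linear group (helper17)

`V = (Fin m → W) × U`; `psi : (Fin m → GL W) × GL U →* GL V`, `rho : Perm (Fin m) →* GL V`;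
`TT D T P = psi (D^m × T) ⋊ rho P`.

* `isPGroup_TT`, `card_le_TT`, `TT_le`;
* `closure_psi` : generators of `psi (D^m × T)`.
-/

set_option autoImplicit false

namespace Cfsg.Agent.FooteOrth.Wr

open Subgroup

variable {F : Type*} [Field F] {W U : Type*} [AddCommGroup W] [Module F W] [AddCommGroup U] [Module F U] {m : ℕ}

/-- the diagonal part -/
def psi : ((Fin m → (W ≃ₗ[F] W)) × (U ≃ₗ[F] U)) →* (((Fin m → W) × U) ≃ₗ[F] ((Fin m → W) × U)) where
  toFun p := (LinearEquiv.piCongrRight p.1).prodCongr p.2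
  map_one' := rfl
  map_mul' _ _ := rfl

theorem psi_apply (p : (Fin m → (W ≃ₗ[F] W)) × (U ≃ₗ[F] U)) (x : (Fin m → W) × U) :
    psi p x = (fun i => p.1 i (x.1 i), p.2 x.2) := rfl

/-- the permutations of the blocks -/
def rho : Equiv.Perm (Fin m) →* (((Fin m → W) × U) ≃ₗ[F] ((Fin m → W) × U)) where
  toFun π := (LinearEquiv.funCongrLeft F W π⁻¹).prodCongr (LinearEquiv.refl F U)
  map_one' := rfl
  map_mul' a b := by
    rw [mul_inv_rev]
    rfl

theorem rho_apply (π : Equiv.Perm (Fin m)) (x : (Fin m → W) × U) :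
    (rho π : ((Fin m → W) × U) ≃ₗ[F] ((Fin m → W) × U)) x = (fun i => x.1 (π⁻¹ i), x.2) := rfl

theorem rho_psi (π : Equiv.Perm (Fin m)) (d : Fin m → (W ≃ₗ[F] W)) (t : U ≃ₗ[F] U) :
    rho π * psi (d, t) * (rho π)⁻¹ = psi (fun i => d (π⁻¹ i), t) := by
  rw [mul_inv_eq_iff_eq_mul]
  ext1 x
  rfl

variable (D : Subgroup (W ≃ₗ[F] W)) (T : Subgroup (U ≃ₗ[F] U)) (P : Subgroup (Equiv.Perm (Fin m)))

/-- the base group -/
def base (m : ℕ) : Subgroup (((Fin m → W) × U) ≃ₗ[F] ((Fin m → W) × U)) :=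
  ((Subgroup.pi Set.univ fun _ : Fin m => D).prod T).map psi

/-- the wreath product -/
def TT : Subgroup (((Fin m → W) × U) ≃ₗ[F] ((Fin m → W) × U)) := base D T m ⊔ P.map rho

variable {D T P}

theorem psi_mem_base {d : Fin m → (W ≃ₗ[F] W)} {t : U ≃ₗ[F] U} (hd : ∀ i, d i ∈ D) (ht : t ∈ T) :
    psi (d, t) ∈ base D T m :=
  ⟨(d, t), ⟨fun i _ => hd i, ht⟩, rfl⟩

theorem rho_conj_base {π : Equiv.Perm (Fin m)} {g : ((Fin m → W) × U) ≃ₗ[F] ((Fin m → W) × U)} (hg : g ∈ base D T m) :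
    rho π * g * (rho π)⁻¹ ∈ base D T m := by
  obtain ⟨⟨d, t⟩, ⟨hd, ht⟩, rfl⟩ := hg
  rw [rho_psi]
  exact psi_mem_base (fun i => hd _ trivial) ht

theorem isPGroup_base [Finite W] (hD : IsPGroup 2 D) (hT : IsPGroup 2 T) : IsPGroup 2 ↥(base D T m) := by
  have hp : Fact (Nat.Prime 2) := ⟨Nat.prime_two⟩
  have hfin : Finite (W ≃ₗ[F] W) := DFunLike.finite _
  have hfin' : Finite D := inferInstance
  obtain ⟨n, hn⟩ := IsPGroup.iff_card.1 hD
  refine IsPGroup.map ?_ psi
  rintro ⟨⟨d, t⟩, hd, ht⟩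
  obtain ⟨k, hk⟩ := hT ⟨t, ht⟩
  refine ⟨n + k, Subtype.ext (Prod.ext ?_ ?_)⟩
  · funext i
    show (d i) ^ 2 ^ (n + k) = 1
    have h1 : (⟨d i, hd i trivial⟩ : D) ^ 2 ^ n = 1 := by
      rw [← hn]
      exact pow_card_eq_one'
    have h2 : (d i) ^ 2 ^ n = 1 := congrArg Subtype.val h1
    rw [pow_add, pow_mul, h2, one_pow]
  · show t ^ 2 ^ (n + k) = 1
    have h2 : t ^ 2 ^ k = 1 := congrArg Subtype.val hk
    rw [add_comm, pow_add, pow_mul, h2, one_pow]

theorem map_rho_le_normalizer : P.map rho ≤ normalizer ((base D T m : Subgroup _) : Set (((Fin m → W) × U) ≃ₗ[F] ((Fin m → W) × U))) := by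
  rintro _ ⟨π, _, rfl⟩
  rw [mem_normalizer_iff]
  intro g
  refine ⟨fun hg => rho_conj_base hg, fun hg => ?_⟩
  have := rho_conj_base (π := π⁻¹) hg
  rw [map_inv] at this
  have e : (rho π)⁻¹ * (rho π * g * (rho π)⁻¹) * ((rho π)⁻¹)⁻¹ = g := by group
  rwa [e] at this

theorem isPGroup_TT [Finite W] (hD : IsPGroup 2 D) (hT : IsPGroup 2 T) (hP : IsPGroup 2 P) :
    IsPGroup 2 ↥(TT (F := F) (W := W) (U := U) D T P) := by
  have hp : Fact (Nat.Prime 2) := ⟨Nat.prime_two⟩
  exact IsPGroup.to_sup_of_normal_left' (isPGroup_base hD hT) (hP.map rho) map_rho_le_normalizer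

theorem rho_mem_TT {π : Equiv.Perm (Fin m)} (hπ : π ∈ P) : rho π ∈ TT (F := F) (W := W) (U := U) D T P :=
  (le_sup_right : P.map rho ≤ _) ⟨π, hπ, rfl⟩

theorem psi_mem_TT {d : Fin m → (W ≃ₗ[F] W)} {t : U ≃ₗ[F] U} (hd : ∀ i, d i ∈ D) (ht : t ∈ T) :
    psi (d, t) ∈ TT D T P :=
  (le_sup_left : base D T m ≤ _) (psi_mem_base hd ht)

theorem psi_injective : Function.Injective
    (psi : ((Fin m → (W ≃ₗ[F] W)) × (U ≃ₗ[F] U)) →* (((Fin m → W) × U) ≃ₗ[F] ((Fin m → W) × U))) := by
  rintro ⟨d, t⟩ ⟨d', t'⟩ h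
  refine Prod.ext ?_ ?_
  · funext i
    ext1 w
    have h1 := DFunLike.congr_fun h (Pi.single i w, 0)
    rw [psi_apply, psi_apply] at h1
    have h2 := congrFun (congrArg Prod.fst h1) i
    simpa using h2
  · ext1 u
    have h1 := DFunLike.congr_fun h (0, u)
    rw [psi_apply, psi_apply] at h1
    exact congrArg Prod.snd h1

theorem card_le_TT [Finite W] [Finite U] [Nontrivial W] :
    Nat.card D ^ m * Nat.card T * Nat.card P ≤ Nat.card (TT (F := F) (W := W) (U := U) D T P) := by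
  have hfin : Finite (((Fin m → W) × U) ≃ₗ[F] ((Fin m → W) × U)) := DFunLike.finite _
  have e : Nat.card D ^ m * Nat.card T * Nat.card P = Nat.card (((Fin m → D) × T) × P) := by
    rw [Nat.card_prod, Nat.card_prod, Nat.card_fun, Nat.card_fin]
  rw [e]
  refine Nat.card_le_card_of_injective
    (fun x => (⟨psi (fun i => (x.1.1 i : W ≃ₗ[F] W), (x.1.2 : U ≃ₗ[F] U)) * rho (x.2 : Equiv.Perm (Fin m)),
      mul_mem (psi_mem_TT (fun i => (x.1.1 i).2) x.1.2.2) (rho_mem_TT x.2.2)⟩ : TT D T P)) ?_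
  rintro ⟨⟨d, t⟩, π⟩ ⟨⟨d', t'⟩, π'⟩ h
  have h1 : psi (fun i => (d i : W ≃ₗ[F] W), (t : U ≃ₗ[F] U)) * rho (π : Equiv.Perm (Fin m)) =
      psi (fun i => (d' i : W ≃ₗ[F] W), (t' : U ≃ₗ[F] U)) * rho (π' : Equiv.Perm (Fin m)) := congrArg Subtype.val h
  have h2 : (π : Equiv.Perm (Fin m)) = π' := by
    ext1 i
    obtain ⟨w, hw⟩ := exists_ne (0 : W)
    have h3 := DFunLike.congr_fun h1 (Pi.single i w, 0)
    have h4 := congrFun (congrArg Prod.fst h3) ((π : Equiv.Perm (Fin m)) i)
    have h5 : (d ((π : Equiv.Perm (Fin m)) i) : W ≃ₗ[F] W) ((Pi.single i w : Fin m → W) ((π : Equiv.Perm (Fin m))⁻¹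
        ((π : Equiv.Perm (Fin m)) i))) = (d' ((π : Equiv.Perm (Fin m)) i) : W ≃ₗ[F] W)
        ((Pi.single i w : Fin m → W) ((π' : Equiv.Perm (Fin m))⁻¹ ((π : Equiv.Perm (Fin m)) i))) := h4
    have h8 : (π : Equiv.Perm (Fin m))⁻¹ ((π : Equiv.Perm (Fin m)) i) = i := Equiv.Perm.inv_eq_iff_eq.2 rfl
    rw [h8, Pi.single_eq_same] at h5
    by_contra hne
    have h6 : (π' : Equiv.Perm (Fin m))⁻¹ ((π : Equiv.Perm (Fin m)) i) ≠ i := by
      intro h7
      apply hne
      rw [Equiv.Perm.inv_eq_iff_eq] at h7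
      exact h7
    rw [Pi.single_eq_of_ne h6, map_zero] at h5
    exact hw ((d ((π : Equiv.Perm (Fin m)) i) : W ≃ₗ[F] W).injective (h5.trans (map_zero _).symm))
  rw [h2] at h1
  have h3 := psi_injective (mul_right_cancel h1)
  refine Prod.ext (Prod.ext ?_ ?_) (Subtype.ext h2)
  · funext i
    exact Subtype.ext (congrFun (congrArg Prod.fst h3) i)
  · exact Subtype.ext (congrArg Prod.snd h3)

/-- generators of the base group -/
theorem base_le {C : Subgroup (((Fin m → W) × U) ≃ₗ[F] ((Fin m → W) × U))}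
    (h1 : ∀ i, ∀ d ∈ D, psi (Pi.mulSingle i d, 1) ∈ C) (h2 : ∀ t ∈ T, psi (1, t) ∈ C) : base D T m ≤ C := by
  have h3 : Subgroup.pi Set.univ (fun _ : Fin m => D) ≤ C.comap (psi.comp (MonoidHom.inl _ (U ≃ₗ[F] U))) := by
    rw [Subgroup.pi_le_iff]
    rintro i _ ⟨d, hd, rfl⟩
    exact h1 i d hd
  rintro _ ⟨⟨d, t⟩, ⟨hd, ht⟩, rfl⟩
  have h4 : psi (d, 1) ∈ C := h3 hd
  have e : ((d, t) : (Fin m → (W ≃ₗ[F] W)) × (U ≃ₗ[F] U)) = (d, 1) * (1, t) := by simp
  rw [e, map_mul]
  exact C.mul_mem h4 (h2 t ht)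

end Cfsg.Agent.FooteOrth.Wr

end

-- merged: Cfsg.Agent.FooteOrth.WrForm
section

/-!
# The quadratic form on the wreath product model (helper17)

* `QM m qW qU` the orthogonal sum of `m` copies of `qW` and of `qU`;
* `TT_eq_closure` : generation of `TT` by its reflections and `rho P`;
* `PX Q` : the isometries generated by pairs of reflections through products of two involutions; `PX.x`;
* `px_rho` : `rho π` is in `PX` for 2-elements `π`;
* `conjL` : transport.
-/

set_option autoImplicit false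

namespace Cfsg.Agent.FooteOrth

open QuadraticMap Cfsg Subgroup
open Cfsg.Agent.LieClassical.OrthCore Cfsg.Agent.LieClassical.OrthTrans
open Cfsg.Agent.ClosedTwo.Elem
open Cfsg.Agent.GenOrth (refl_self refl_perp)

/-! ### The elements obtained from pairs -/

section PX

variable {F V : Type*} [Field F] [AddCommGroup V] [Module F V] {Q : QuadraticForm F V} {G : Type*} [Group G]

/-- the isometries obtained from the pairs -/
inductive PX (Q : QuadraticForm F V) : (V ≃ₗ[F] V) → Prop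
  | one : PX Q 1
  | pair {a b : V} (h : Pair Q a b) : PX Q h.t
  | mul {g k : V ≃ₗ[F] V} (hg : PX Q g) (hk : PX Q k) (h1 : g * g = 1) (h2 : k * k = 1) {n : ℕ}
      (h3 : (g * k) ^ 2 ^ n = 1) : PX Q (g * k)

theorem PX.x [Finite G] {φ : E Q →* G} {A : Subgroup G} {S : Sylow 2 G} (hA : IsStronglyClosed A (S : Subgroup G))
    (hp : ∀ {a b : V} (h : Pair Q a b), X φ A h.t) {g : V ≃ₗ[F] V} (hg : PX Q g) : X φ A g := by
  induction hg with
  | one => exact X.one
  | pair h => exact hp h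
  | mul hg hk h1 h2 h3 ih1 ih2 => exact X.mul_invol hA ih1 ih2 h1 h2 h3

/-- transport of automorphisms -/
def conjL {V' : Type*} [AddCommGroup V'] [Module F V'] (L : V ≃ₗ[F] V') : (V ≃ₗ[F] V) ≃* (V' ≃ₗ[F] V') where
  toFun g := (L.symm.trans g).trans L
  invFun g := (L.trans g).trans L.symm
  left_inv g := by ext v; simp
  right_inv g := by ext v; simp
  map_mul' g h := by ext v; simp only [_root_.LinearEquiv.trans_apply, _root_.LinearEquiv.mul_apply, _root_.LinearEquiv.symm_apply_apply]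

variable {V' : Type*} [AddCommGroup V'] [Module F V'] (L : V ≃ₗ[F] V') {Q' : QuadraticForm F V'}

theorem conjL_apply (g : V ≃ₗ[F] V) (v : V) : conjL L g (L v) = L (g v) := by
  show L (g (L.symm (L v))) = L (g v)
  rw [LinearEquiv.symm_apply_apply]

variable {L} (hL : ∀ v, Q' (L v) = Q v)

include hL

theorem conjL_mem_O {g : V ≃ₗ[F] V} (hg : g ∈ O Q) : conjL L g ∈ O Q' := by
  intro v
  obtain ⟨v, rfl⟩ := L.surjective v
  rw [conjL_apply, hL, hL, mem_O.1 hg]

theorem polar_L (v w : V) : polar Q' (L v) (L w) = polar Q v w := by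
  rw [polar, polar, ← map_add, hL, hL, hL]

theorem conjL_refl {v : V} (hv : Q v ≠ 0) (hv' : Q' (L v) ≠ 0) : conjL L (refl Q v hv) = refl Q' (L v) hv' := by
  ext1 x
  obtain ⟨x, rfl⟩ := L.surjective x
  rw [conjL_apply, refl_apply, refl_apply, map_sub, map_smul, polar_L hL, hL]

theorem Pair.transport {a b : V} (h : Pair Q a b) : ∃ h' : Pair Q' (L a) (L b), conjL L h.t = h'.t := by
  have h' : Pair Q' (L a) (L b) := ⟨by rw [hL]; exact h.left, by rw [hL]; exact h.right,
    by rw [hL, hL]; exact h.eq, by rw [polar_L hL]; exact h.perp⟩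
  refine ⟨h', ?_⟩
  rw [Pair.t, Pair.t, map_mul, conjL_refl hL h.left h'.left, conjL_refl hL h.right h'.right]

theorem PX.transport {g : V ≃ₗ[F] V} (hg : PX Q g) : PX Q' (conjL L g) := by
  induction hg with
  | one =>
    rw [map_one]
    exact PX.one
  | pair h =>
    obtain ⟨h', e⟩ := h.transport hL
    rw [e]
    exact PX.pair h'
  | @mul g k hg hk h1 h2 n h3 ih1 ih2 =>
    rw [map_mul]
    refine PX.mul ih1 ih2 ?_ ?_ (n := n) ?_
    · rw [← map_mul, h1, map_one]
    · rw [← map_mul, h2, map_one]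
    · rw [← map_mul, ← map_pow, h3, map_one]

end PX

namespace Wr

variable {F : Type*} [Field F] {W U : Type*} [AddCommGroup W] [Module F W] [AddCommGroup U] [Module F U] {m : ℕ}
  {qW : QuadraticForm F W} {qU : QuadraticForm F U}

/-- the orthogonal sum -/
noncomputable def QM (m : ℕ) (qW : QuadraticForm F W) (qU : QuadraticForm F U) :
    QuadraticForm F ((Fin m → W) × U) :=
  QuadraticMap.prod (QuadraticMap.pi fun _ : Fin m => qW) qU

theorem QM_apply (x : (Fin m → W) × U) : QM m qW qU x = ∑ i, qW (x.1 i) + qU x.2 := by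
  rw [QM, QuadraticMap.prod_apply, QuadraticMap.pi_apply]

theorem polar_QM (x y : (Fin m → W) × U) :
    polar (QM m qW qU) x y = ∑ i, polar qW (x.1 i) (y.1 i) + polar qU x.2 y.2 := by
  rw [QM, polar_prod]
  congr 1
  simp only [polar, QuadraticMap.pi_apply, Pi.add_apply, Finset.sum_sub_distrib]

theorem QM_single (i : Fin m) (w : W) : QM m qW qU (Pi.single i w, 0) = qW w := by
  rw [QM_apply, Fintype.sum_eq_single i fun j hj => by
    show qW ((Pi.single i w : Fin m → W) j) = 0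
    rw [Pi.single_eq_of_ne hj, QuadraticMap.map_zero]]
  show qW ((Pi.single i w : Fin m → W) i) + qU 0 = _
  rw [Pi.single_eq_same, QuadraticMap.map_zero, add_zero]

theorem QM_right (u : U) : QM m qW qU (0, u) = qU u := by
  rw [QM_apply]
  show ∑ _ : Fin m, qW 0 + qU u = _
  rw [QuadraticMap.map_zero, Finset.sum_const_zero, zero_add]

theorem polar_QM_single (i : Fin m) (w : W) (y : (Fin m → W) × U) :
    polar (QM m qW qU) (Pi.single i w, 0) y = polar qW w (y.1 i) := by
  rw [polar_QM, Fintype.sum_eq_single i fun j hj => by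
    show polar qW ((Pi.single i w : Fin m → W) j) _ = 0
    rw [Pi.single_eq_of_ne hj, polar_zero_left]]
  show polar qW ((Pi.single i w : Fin m → W) i) _ + polar qU 0 y.2 = _
  rw [Pi.single_eq_same, polar_zero_left, add_zero]

theorem polar_QM_right (u : U) (y : (Fin m → W) × U) : polar (QM m qW qU) (0, u) y = polar qU u y.2 := by
  rw [polar_QM]
  show ∑ i : Fin m, polar qW 0 (y.1 i) + polar qU u y.2 = _
  rw [Finset.sum_eq_zero fun i _ => polar_zero_left _ _, zero_add]

theorem psi_mem_O {d : Fin m → (W ≃ₗ[F] W)} {t : U ≃ₗ[F] U} (hd : ∀ i, d i ∈ O qW) (ht : t ∈ O qU) :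
    psi (d, t) ∈ O ((QM m qW qU :)) := by
  intro x
  rw [psi_apply, QM_apply, QM_apply]
  show ∑ i, qW (d i (x.1 i)) + qU (t x.2) = _
  rw [mem_O.1 ht, Finset.sum_congr rfl fun i _ => mem_O.1 (hd i) (x.1 i)]

theorem rho_mem_O (π : Equiv.Perm (Fin m)) : rho π ∈ O ((QM m qW qU :)) := by
  intro x
  rw [rho_apply, QM_apply, QM_apply]
  show ∑ i, qW (x.1 (π⁻¹ i)) + qU x.2 = _
  rw [Equiv.sum_comp π⁻¹ fun i => qW (x.1 i)]

theorem TT_le_O {D : Subgroup (W ≃ₗ[F] W)} {T : Subgroup (U ≃ₗ[F] U)} {P : Subgroup (Equiv.Perm (Fin m))}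
    (hD : D ≤ O qW) (hT : T ≤ O qU) : TT D T P ≤ O ((QM m qW qU :)) := by
  rw [TT, sup_le_iff]
  constructor
  · rintro _ ⟨⟨d, t⟩, ⟨hd, ht⟩, rfl⟩
    exact psi_mem_O (fun i => hD (hd i trivial)) (hT ht)
  · rintro _ ⟨π, -, rfl⟩
    exact rho_mem_O π

theorem psi_refl_left (i : Fin m) {w : W} (hw : qW w ≠ 0) (hw' : QM m qW qU (Pi.single i w, 0) ≠ 0) :
    psi (Pi.mulSingle i (refl qW w hw), 1) = refl ((QM m qW qU :)) (Pi.single i w, 0) hw' := by
  ext1 x
  rw [psi_apply, refl_apply hw', polar_QM_single, QM_single]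
  refine Prod.ext ?_ ?_
  · funext j
    by_cases hj : j = i
    · subst hj
      show (Pi.mulSingle j (refl qW w hw) : Fin m → (W ≃ₗ[F] W)) j (x.1 j) =
        x.1 j - ((qW w)⁻¹ * polar qW w (x.1 j)) • (Pi.single j w : Fin m → W) j
      rw [Pi.mulSingle_eq_same, Pi.single_eq_same, refl_apply]
    · show (Pi.mulSingle i (refl qW w hw) : Fin m → (W ≃ₗ[F] W)) j (x.1 j) =
        x.1 j - ((qW w)⁻¹ * polar qW w (x.1 i)) • (Pi.single i w : Fin m → W) j
      rw [Pi.mulSingle_eq_of_ne hj, Pi.single_eq_of_ne hj, smul_zero, sub_zero]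
      rfl
  · show x.2 = x.2 - ((qW w)⁻¹ * polar qW w (x.1 i)) • (0 : U)
    rw [smul_zero, sub_zero]

theorem psi_refl_right {u : U} (hu : qU u ≠ 0) (hu' : QM m qW qU (0, u) ≠ 0) :
    psi ((1 : Fin m → (W ≃ₗ[F] W)), refl qU u hu) = refl ((QM m qW qU :)) (0, u) hu' := by
  ext1 x
  rw [psi_apply, refl_apply hu', polar_QM_right, QM_right]
  refine Prod.ext ?_ ?_
  · funext j
    show x.1 j = x.1 j - ((qU u)⁻¹ * polar qU u x.2) • (0 : W)
    rw [smul_zero, sub_zero]
  · show refl qU u hu x.2 = x.2 - ((qU u)⁻¹ * polar qU u x.2) • u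
    rw [refl_apply]

theorem TT_eq_closure {D : Subgroup (W ≃ₗ[F] W)} {T : Subgroup (U ≃ₗ[F] U)} {P : Subgroup (Equiv.Perm (Fin m))}
    (hD : D ≤ _root_.Subgroup.closure {r | r ∈ D ∧ r ∈ reflSet qW}) (hT : T ≤ _root_.Subgroup.closure {r | r ∈ T ∧ r ∈ reflSet qU}) :
    TT D T P = closure (((P.map rho : Subgroup (((Fin m → W) × U) ≃ₗ[F] ((Fin m → W) × U))) : Set (((Fin m → W) × U) ≃ₗ[F] ((Fin m → W) × U))) ∪
      {r | r ∈ TT D T P ∧ r ∈ reflSet ((QM m qW qU :))}) := by
  apply le_antisymm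
  · rw [TT, sup_le_iff]
    constructor
    · apply base_le
      · intro i d hd
        have h1 : D ≤ (closure (((P.map rho : Subgroup (((Fin m → W) × U) ≃ₗ[F] ((Fin m → W) × U))) : Set (((Fin m → W) × U) ≃ₗ[F] ((Fin m → W) × U))) ∪
            {r | r ∈ TT D T P ∧ r ∈ reflSet ((QM m qW qU :))})).comap
            ((psi.comp (MonoidHom.inl _ (U ≃ₗ[F] U))).comp (MonoidHom.mulSingle (fun _ : Fin m => W ≃ₗ[F] W) i)) := by
          refine hD.trans ?_
          rw [closure_le]
          rintro _ ⟨hr, w, hw, rfl⟩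
          have hw' : QM m qW qU (Pi.single i w, 0) ≠ 0 := by rw [QM_single]; exact hw
          have e := psi_refl_left (m := m) (qU := qU) i hw hw'
          show psi (Pi.mulSingle i (refl qW w hw), 1) ∈ Subgroup.closure _
          refine _root_.Subgroup.subset_closure (Or.inr ⟨psi_mem_TT (fun j => ?_) T.one_mem, ?_⟩)
          · by_cases hj : j = i
            · subst hj
              rw [Pi.mulSingle_eq_same]
              exact hr
            · rw [Pi.mulSingle_eq_of_ne hj]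
              exact D.one_mem
          · rw [e]
            exact ⟨_, hw', rfl⟩
        exact h1 hd
      · intro t ht
        have h1 : T ≤ (closure (((P.map rho : Subgroup (((Fin m → W) × U) ≃ₗ[F] ((Fin m → W) × U))) : Set (((Fin m → W) × U) ≃ₗ[F] ((Fin m → W) × U))) ∪
            {r | r ∈ TT D T P ∧ r ∈ reflSet ((QM m qW qU :))})).comap
            ((psi.comp (MonoidHom.inr (Fin m → (W ≃ₗ[F] W)) (U ≃ₗ[F] U)) :)) := by
          refine hT.trans ?_
          rw [closure_le]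
          rintro _ ⟨hr, u, hu, rfl⟩
          have hu' : QM m qW qU (0, u) ≠ 0 := by rw [QM_right]; exact hu
          have e := psi_refl_right (m := m) (qW := qW) hu hu'
          show psi ((1 : Fin m → (W ≃ₗ[F] W)), refl qU u hu) ∈ Subgroup.closure _
          refine _root_.Subgroup.subset_closure (Or.inr ⟨psi_mem_TT (fun j => D.one_mem) hr, ?_⟩)
          rw [e]
          exact ⟨_, hu', rfl⟩
        exact h1 ht
    · intro x hx
      exact _root_.Subgroup.subset_closure (Or.inl hx)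
  · rw [closure_le]
    rintro x (hx | ⟨hx, -⟩)
    · exact (le_sup_right : P.map rho ≤ TT D T P) hx
    · exact hx

/-! ### The permutations -/

/-- an orthogonal basis of `W` with equal norms -/
structure Basis2 (qW : QuadraticForm F W) (a b : W) : Prop where
  pair : Pair qW a b
  span : ∀ w : W, w = ((2 * qW a)⁻¹ * polar qW a w) • a + ((2 * qW b)⁻¹ * polar qW b w) • b

theorem diff_norm (a : W) {i j : Fin m} (hij : i ≠ j) :
    QM m qW qU ((Pi.single i a : Fin m → W) - Pi.single j a, 0) = 2 * qW a := by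
  have e : ((Pi.single i a : Fin m → W) - Pi.single j a, (0 : U)) =
      ((Pi.single i a : Fin m → W), (0 : U)) + -((Pi.single j a : Fin m → W), (0 : U)) := by
    refine Prod.ext ?_ ?_
    · show (Pi.single i a : Fin m → W) - Pi.single j a = (Pi.single i a : Fin m → W) + -Pi.single j a
      rw [sub_eq_add_neg]
    · show (0 : U) = 0 + -0
      rw [neg_zero, add_zero]
  rw [e, Q_add, QuadraticMap.map_neg, polar_neg_right, QM_single, QM_single, polar_QM_single]
  show qW a + qW a + -polar qW a ((Pi.single j a : Fin m → W) i) = _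
  rw [Pi.single_eq_of_ne hij, polar_zero_right]
  ring

theorem polar_diff (a : W) {i j : Fin m} (y : (Fin m → W) × U) :
    polar (QM m qW qU) ((Pi.single i a : Fin m → W) - Pi.single j a, 0) y = polar qW a (y.1 i) - polar qW a (y.1 j) := by
  have e : ((Pi.single i a : Fin m → W) - Pi.single j a, (0 : U)) =
      ((Pi.single i a : Fin m → W), (0 : U)) + -((Pi.single j a : Fin m → W), (0 : U)) := by
    refine Prod.ext ?_ ?_
    · show (Pi.single i a : Fin m → W) - Pi.single j a = (Pi.single i a : Fin m → W) + -Pi.single j a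
      rw [sub_eq_add_neg]
    · show (0 : U) = 0 + -0
      rw [neg_zero, add_zero]
  rw [e, polar_add_left, polar_neg_left, polar_QM_single, polar_QM_single, sub_eq_add_neg]

theorem swap_pair (h2 : (2 : F) ≠ 0) {a b : W} (h : Basis2 qW a b) {i j : Fin m} (hij : i ≠ j) :
    ∃ h' : Pair ((QM m qW qU :)) ((Pi.single i a : Fin m → W) - Pi.single j a, 0) ((Pi.single i b : Fin m → W) - Pi.single j b, 0),
      rho (Equiv.swap i j) = h'.t := by
  have hba : polar qW b a = 0 := by rw [polar_comm]; exact h.pair.perp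
  have ha2 : (2 : F) * qW a ≠ 0 := mul_ne_zero h2 h.pair.left
  have hb2 : (2 : F) * qW b ≠ 0 := mul_ne_zero h2 h.pair.right
  have h' : Pair ((QM m qW qU :)) ((Pi.single i a : Fin m → W) - Pi.single j a, 0) ((Pi.single i b : Fin m → W) - Pi.single j b, 0) := by
    refine ⟨by rw [diff_norm a hij]; exact ha2, by rw [diff_norm b hij]; exact hb2,
      by rw [diff_norm a hij, diff_norm b hij, h.pair.eq], ?_⟩
    rw [polar_diff]
    show polar qW a ((Pi.single i b : Fin m → W) i - (Pi.single j b : Fin m → W) i) -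
      polar qW a ((Pi.single i b : Fin m → W) j - (Pi.single j b : Fin m → W) j) = 0
    rw [Pi.single_eq_same, Pi.single_eq_same, Pi.single_eq_of_ne hij, Pi.single_eq_of_ne hij.symm, sub_zero, zero_sub,
      polar_neg_right, h.pair.perp, neg_zero, sub_zero]
  refine ⟨h', ?_⟩
  ext1 x
  rw [rho_apply]
  show _ = refl _ _ h'.left (refl _ _ h'.right x)
  rw [refl_apply, refl_apply, polar_sub_right, polar_smul_right, h'.perp, smul_zero, sub_zero, polar_diff, polar_diff,
    diff_norm a hij, diff_norm b hij]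
  have hsi : (Equiv.swap i j)⁻¹ = Equiv.swap i j := Equiv.swap_inv i j
  rw [hsi]
  -- the difference
  have key : ∀ w w' : W, w - w' = ((2 * qW a)⁻¹ * (polar qW a w - polar qW a w')) • a +
      ((2 * qW b)⁻¹ * (polar qW b w - polar qW b w')) • b := by
    intro w w'
    rw [← polar_sub_right, ← polar_sub_right]
    exact h.span (w - w')
  refine Prod.ext ?_ ?_
  · funext l
    show x.1 (Equiv.swap i j l) = x.1 l - ((2 * qW b)⁻¹ * (polar qW b (x.1 i) - polar qW b (x.1 j))) •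
        ((Pi.single i b : Fin m → W) l - (Pi.single j b : Fin m → W) l) -
      ((2 * qW a)⁻¹ * (polar qW a (x.1 i) - polar qW a (x.1 j))) •
        ((Pi.single i a : Fin m → W) l - (Pi.single j a : Fin m → W) l)
    have hk := key (x.1 i) (x.1 j)
    by_cases hli : l = i
    · subst hli
      rw [Equiv.swap_apply_left, Pi.single_eq_same, Pi.single_eq_same, Pi.single_eq_of_ne hij, Pi.single_eq_of_ne hij,
        sub_zero, sub_zero, sub_sub, add_comm (_ • b), ← hk]
      abel
    · by_cases hlj : l = j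
      · subst hlj
        rw [Equiv.swap_apply_right, Pi.single_eq_same, Pi.single_eq_same, Pi.single_eq_of_ne hli,
          Pi.single_eq_of_ne hli, zero_sub, zero_sub, smul_neg, smul_neg, sub_neg_eq_add, sub_neg_eq_add, add_assoc,
          add_comm (_ • b), ← hk]
        abel
      · rw [Equiv.swap_apply_of_ne_of_ne hli hlj, Pi.single_eq_of_ne hli, Pi.single_eq_of_ne hli,
          Pi.single_eq_of_ne hlj, Pi.single_eq_of_ne hlj, sub_zero, smul_zero, smul_zero, sub_zero, sub_zero]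
  · show x.2 = x.2 - ((2 * qW b)⁻¹ * (polar qW b (x.1 i) - polar qW b (x.1 j))) • (0 : U) -
      ((2 * qW a)⁻¹ * (polar qW a (x.1 i) - polar qW a (x.1 j))) • (0 : U)
    rw [smul_zero, smul_zero, sub_zero, sub_zero]

theorem px_swap (h2 : (2 : F) ≠ 0) {a b : W} (h : Basis2 qW a b) {i j : Fin m} (hij : i ≠ j) :
    PX ((QM m qW qU :)) (rho (Equiv.swap i j)) := by
  obtain ⟨h', e⟩ := swap_pair (qU := qU) h2 h hij
  rw [e]
  exact PX.pair h'

theorem px_invol (h2 : (2 : F) ≠ 0) {a b : W} (h : Basis2 qW a b) : ∀ (n : ℕ) (π : Equiv.Perm (Fin m)),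
    π.support.card ≤ n → π * π = 1 → PX ((QM m qW qU :)) (rho π) := by
  intro n
  induction n with
  | zero =>
    intro π hn _
    have h1 : π.support = ∅ := Finset.card_eq_zero.1 (Nat.le_zero.1 hn)
    rw [Equiv.Perm.support_eq_empty_iff.1 h1, map_one]
    exact PX.one
  | succ n ih =>
    intro π hn hπ
    by_cases h1 : π = 1
    · rw [h1, map_one]
      exact PX.one
    · obtain ⟨i, hi⟩ : ∃ i, π i ≠ i := by
        by_contra hcon
        push Not at hcon
        exact h1 (Equiv.ext hcon)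
      have hππ : ∀ l, π (π l) = l := fun l => DFunLike.congr_fun hπ l
      have hij : i ≠ π i := fun h => hi h.symm
      obtain ⟨s, hs⟩ : ∃ s, s = Equiv.swap i (π i) := ⟨_, rfl⟩
      have hss : s * s = 1 := by rw [hs]; exact Equiv.swap_mul_self _ _
      have hcomm : s * π = π * s := by
        have e1 : π * s * π⁻¹ = s := by
          have h9 := Equiv.swap_apply_apply π i (π i)
          rw [hππ] at h9
          rw [hs, ← h9, Equiv.swap_comm]
        calc s * π = π * s * π⁻¹ * π := by rw [e1]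
          _ = π * s := by group
      have e : π = s * (s * π) := by rw [← mul_assoc, hss, one_mul]
      have h3 : (s * π) * (s * π) = 1 := by
        calc (s * π) * (s * π) = s * (π * s) * π := by group
          _ = (s * s) * (π * π) := by rw [← hcomm]; group
          _ = 1 := by rw [hss, hπ, one_mul]
      have hsub : (s * π).support ⊂ π.support := by
        rw [Finset.ssubset_iff_of_subset]
        · refine ⟨i, Equiv.Perm.mem_support.2 hi, ?_⟩
          rw [Equiv.Perm.mem_support, not_not, Equiv.Perm.mul_apply, hs, Equiv.swap_apply_right]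
        · intro l hl
          rw [Equiv.Perm.mem_support] at hl ⊢
          intro h4
          apply hl
          rw [Equiv.Perm.mul_apply, h4, hs, Equiv.swap_apply_of_ne_of_ne]
          · rintro rfl
            exact hi h4
          · rintro rfl
            rw [hππ] at h4
            exact hi h4.symm
      have h5 := Finset.card_lt_card hsub
      have ih' := ih (s * π) (by omega) h3
      rw [e, map_mul]
      have h6 : PX ((QM m qW qU :)) (rho s) := by
        rw [hs]
        exact px_swap h2 h hij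
      refine PX.mul h6 ih' ?_ ?_ (n := 1) ?_
      · rw [← map_mul, hss, map_one]
      · rw [← map_mul, h3, map_one]
      · rw [← map_mul, ← e, ← map_pow, pow_one, pow_two, hπ, map_one]

theorem px_rho (h2 : (2 : F) ≠ 0) {a b : W} (h : Basis2 qW a b) {π : Equiv.Perm (Fin m)} {n : ℕ} (hπ : π ^ 2 ^ n = 1) :
    PX ((QM m qW qU :)) (rho π) := by
  obtain ⟨t, ht, htx, -⟩ := Cfsg.Agent.ClosedTwo.Alt.exists_inverting π
  have hti : t⁻¹ = t := inv_eq_of_mul_eq_one_right ht
  have h3 : (t * π) * (t * π) = 1 := by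
    have e : (t * π) * (t * π) = (t * π * t⁻¹) * π := by rw [hti]; group
    rw [e, htx, inv_mul_cancel]
  have e : π = t * (t * π) := by rw [← mul_assoc, ht, one_mul]
  rw [e, map_mul]
  refine PX.mul (px_invol h2 h _ t le_rfl ht) (px_invol h2 h _ (t * π) le_rfl h3) ?_ ?_ (n := n) ?_
  · rw [← map_mul, ht, map_one]
  · rw [← map_mul, h3, map_one]
  · rw [← map_mul, ← e, ← map_pow, hπ, map_one]

end Wr

end Cfsg.Agent.FooteOrth

end

private theorem dce_383764f2e731 : _root_.True := by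
  try have : _root_.True := by simp only [_root_.Cfsg.Agent.FooteOrth.Wr.QM.eq_1]
  try have : _root_.True := by simp only [_root_.Cfsg.Agent.FooteOrth.Pair.t.congr_simp]
  try have : _root_.True := by simp only [_root_.Cfsg.Agent.FooteOrth.Pair.t.eq_1]
  try have : _root_.True := by simp only [_root_.Cfsg.Agent.FooteOrth.Wr.TT.eq_1]
  exact _root_.True.intro
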